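import Groth.Agent.Lib.SepPts.Basic
import Groth.Agent.Lib.AffMono14.Basic
import Groth.Agent.Lib.AbTors.Kill
import Groth.Agent.Lib.AbMul.Etale
import Groth.Agent.Lib.HomFG.Finite
import Groth.Agent.Lib.UnitProd.Split
import Groth.Agent.Lib.FBase7.Conn
import Groth.Agent.Lib.Rigidity.AbImage
import Groth.Agent.Lib.Rigidity.Relative.AbScheme

/-!
# The reduced subscheme of a connected subgroup of an abelian variety is an abelian variety
-/

set_option autoImplicit false
set_option linter.all false
set_option backward.isDefEq.respectTransparency false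
set_option maxHeartbeats 1000000

universe u

open CategoryTheory CategoryTheory.Limits AlgebraicGeometry
open CategoryTheory.MonoidalCategory CategoryTheory.CartesianMonoidalCategory
open scoped MonObj

noncomputable section

namespace GrothLib.RedSubgrp15

variable {k : Type u} [Field k]

theorem geometricallyConnected_of_connected (Y : Over (Spec (CommRingCat.of k))) [GrpObj Y]
    [ConnectedSpace Y.left] : GeometricallyConnected Y.hom := by
  have h : η[Y].left ≫ Y.hom = 𝟙 _ := Over.w η[Y]
  haveI : GeometricallyConnected (𝟙 (Spec (CommRingCat.of k))) := ⟨fun K _ y Z fst snd hsq => by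
    haveI : IsIso snd := hsq.isIso_snd_of_isIso
    exact (Scheme.homeoOfIso (asIso snd)).symm.surjective.connectedSpace
      (Scheme.homeoOfIso (asIso snd)).symm.continuous⟩
  exact FBase7.geometricallyConnected_of_range Y.hom (𝟙 (Spec (CommRingCat.of k))) η[Y].left h

variable (X : Over (Spec (CommRingCat.of k))) [GrpObj X] [IsProper X.hom] [GeometricallyIntegral X.hom]
    (Y : Over (Spec (CommRingCat.of k))) [GrpObj Y] (i : Y ⟶ X) [IsMonHom i] [IsClosedImmersion i.left]
    [ConnectedSpace Y.left] (Yr : Scheme.{u}) (j : Yr ⟶ Y.left) [IsClosedImmersion j] [Surjective j] [IsReduced Yr]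

include i in
theorem geometricallyReduced_reduced : GeometricallyReduced (j ≫ Y.hom) := by
  haveI := Cube.isCommMonObj_abVar (A := X)
  haveI : IsProper Y.hom := by rw [← Over.w i]; infer_instance
  let Ω := AlgebraicClosure k
  let σ : Spec (CommRingCat.of Ω) ⟶ Spec (CommRingCat.of k) := Spec.map (CommRingCat.ofHom (algebraMap k Ω))
  let P := Over.pullback σ
  letI : GrpObj (P.obj Y) := inferInstanceAs (GrpObj ((Over.pullback σ).obj Y))
  letI : GrpObj (P.obj X) := inferInstanceAs (GrpObj ((Over.pullback σ).obj X))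
  haveI : IsMonHom (P.map i) := inferInstanceAs (IsMonHom ((Over.pullback σ).map i))
  obtain ⟨B, _, jB, _, _, _, _⟩ := AffMono14.exists_red (P.obj Y)
  haveI : IsProper (P.obj Y).hom := inferInstanceAs (IsProper (pullback.snd Y.hom σ))
  haveI : IsProper B.hom := by rw [← Over.w jB]; infer_instance
  haveI : GeometricallyReduced B.hom := UnitProd.geometricallyReduced_of_isReduced B.hom
  haveI : ConnectedSpace (P.obj Y).left := by
    haveI := geometricallyConnected_of_connected Y
    exact GeometricallyConnected.geometrically_connectedSpace _ _ _ (IsPullback.of_hasPullback Y.hom σ)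
  haveI : ConnectedSpace B.left := by
    let h : B.left ≃ₜ (P.obj Y).left :=
      jB.left.isClosedEmbedding.isEmbedding.toHomeomorphOfSurjective jB.left.surjective
    exact h.symm.surjective.connectedSpace h.symm.continuous
  haveI : GeometricallyIntegral B.hom := Rigidity.geometricallyIntegral_of_connected B
  haveI := Cube.isCommMonObj_abVar (A := B)
  obtain ⟨l, hl, hlk⟩ := HomFG.exists_prime_ne_zero k
  have hlΩ : (l : Ω) ≠ 0 := fun h0 => hlk ((algebraMap k Ω).injective (by rw [map_natCast, h0, map_zero]))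
  have hd := AbTors.dense_primePowTors B hl.one_lt hlΩ
  let φ : B.left ⟶ Y.left := jB.left ≫ pullback.fst Y.hom σ
  haveI : Surjective σ := AbTors.surjective_of_field σ
  haveI : Surjective (pullback.fst Y.hom σ) := MorphismProperty.pullback_fst (P := @Surjective) _ _ inferInstance
  haveI : Surjective φ := MorphismProperty.comp_mem _ jB.left (pullback.fst Y.hom σ) ‹Surjective jB.left› inferInstance
  let T : Set Yr := {ζ | SepPts.IsSepPt (j ≫ Y.hom) ζ}
  refine SepPts.geometricallyReduced_of_dense (j ≫ Y.hom) (T := T) ?_ fun ζ hζ => hζ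
  intro y
  obtain ⟨b, hb⟩ := φ.surjective (j y)
  have hcl : closure (j '' T) ⊆ j '' closure T :=
    closure_minimal (Set.image_mono subset_closure) (j.isClosedEmbedding.isClosedMap _ isClosed_closure)
  suffices h : j y ∈ j '' closure T by
    obtain ⟨y', hy', he⟩ := h
    rwa [j.isClosedEmbedding.injective he] at hy'
  refine hcl ?_
  rw [← hb]
  refine map_mem_closure φ.continuous (hd b) ?_
  rintro _ ⟨a, ⟨m, hm⟩, rfl⟩
  have hpow : 0 < l ^ m := pow_pos hl.pos m
  haveI : NeZero (l ^ m) := ⟨hpow.ne'⟩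
  have hne : (((l ^ m : ℕ) : ℤ) : k) ≠ 0 := by push_cast; exact pow_ne_zero m hlk
  obtain ⟨-, hE, -⟩ := AbMul.isFinite_etale_surjective_pow X ((l ^ m : ℕ) : ℤ) hne
  rw [zpow_natCast] at hE
  let N := pullback ((𝟙 X : X ⟶ X) ^ (l ^ m)).left η[X].left
  let g : N ⟶ Spec (CommRingCat.of k) := pullback.snd _ _
  haveI : Etale g := MorphismProperty.pullback_snd (P := @Etale) _ _ hE
  haveI : GeometricallyReduced g := Rigidity.geometricallyReduced_of_smooth' g
  let a₁ : Over.mk σ ⟶ X := AbTors.projPt σ (a ≫ jB) ≫ i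
  have ha₁ : a₁ ^ (l ^ m) = 1 := by
    show (AbTors.projPt σ (a ≫ jB) ≫ i) ^ (l ^ m) = 1
    rw [← AbTors.projPt_comp, ← AbTors.projPt_pow, Category.assoc, ← MonObj.pow_comp, hm, MonObj.one_comp]
    haveI : IsCommMonObj (P.obj X) := Functor.isCommMonObj_obj
    have e : (1 : 𝟙_ (Over (Spec (CommRingCat.of Ω))) ⟶ P.obj X) = (1 : 𝟙_ _ ⟶ P.obj X) ^ 0 := (pow_zero _).symm
    rw [e, AbTors.projPt_pow, pow_zero]
  have hker : a₁.left ≫ ((𝟙 X : X ⟶ X) ^ (l ^ m)).left = σ ≫ η[X].left := by
    have h : a₁ ≫ (𝟙 X : X ⟶ X) ^ (l ^ m) = toUnit _ ≫ η[X] := by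
      rw [MonObj.comp_pow, Category.comp_id, ha₁, Hom.one_def]
    exact congrArg Over.Hom.left h
  let aN : Spec (CommRingCat.of Ω) ⟶ N := pullback.lift a₁.left σ hker
  let z : N := aN (IsLocalRing.closedPoint Ω)
  haveI : LocallyQuasiFinite g := EtBasicB.locallyQuasiFinite_of_unramified g
  haveI : DiscreteTopology N := by
    have := g.isDiscrete_preimage_singleton (IsLocalRing.closedPoint k)
    exact isDiscrete_univ_iff.1 (this.mono fun w _ => Subsingleton.elim _ _)
  obtain ⟨k', _, _, _, x, hx, hzx⟩ := SepPts.isSepPt_of_maximal g (fun w (hw : w ⤳ z) => hw.eq)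
  let qN : N ⟶ X.left := pullback.fst _ _
  let o : Spec (CommRingCat.of Ω) := IsLocalRing.closedPoint Ω
  have haφ : qN z = (j ≫ i.left) (Function.surjInv j.surjective (φ (Cube.ptOf a))) := by
    rw [Scheme.Hom.comp_apply, Function.surjInv_eq j.surjective, ← Scheme.Hom.comp_apply,
      pullback.lift_fst]
    rfl
  have hrange : Set.range (x ≫ qN) ⊆ Set.range (j ≫ i.left) := by
    rintro _ ⟨w, rfl⟩
    obtain ⟨w', hw'⟩ := hzx
    rw [Scheme.Hom.comp_apply, Subsingleton.elim (α := PrimeSpectrum k') w w', hw', haφ]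
    exact ⟨_, rfl⟩
  obtain ⟨x', hx'⟩ := RedSub.exists_lift (x ≫ qN) (j ≫ i.left) hrange
  refine ⟨Function.surjInv j.surjective (φ (Cube.ptOf a)), ⟨k', inferInstance, inferInstance, inferInstance, x', ?_, ?_⟩,
    Function.surjInv_eq j.surjective _⟩
  · rw [← hx, ← Over.w i, ← Category.assoc j, ← Category.assoc x', hx', Category.assoc]
    show x ≫ pullback.fst _ _ ≫ X.hom = x ≫ pullback.snd _ _
    congr 1
    have h := congrArg (· ≫ X.hom) (pullback.condition (f := ((𝟙 X : X ⟶ X) ^ (l ^ m)).left) (g := η[X].left))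
    simp only [Category.assoc, Over.w] at h
    exact h.trans (Category.comp_id _)
  · obtain ⟨w', hw'⟩ := hzx
    refine ⟨w', (j ≫ i.left).isClosedEmbedding.injective ?_⟩
    rw [← haφ, ← hw', ← Scheme.Hom.comp_apply, hx', Scheme.Hom.comp_apply]

include i in
theorem main : GeometricallyIntegral (j ≫ Y.hom) ∧
    ∃ _ : GrpObj (Over.mk (j ≫ Y.hom)), IsMonHom (Over.homMk j rfl : Over.mk (j ≫ Y.hom) ⟶ Y) := by
  haveI := geometricallyReduced_reduced X Y i Yr j
  haveI : IsProper Y.hom := by rw [← Over.w i]; infer_instance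
  let M : Over (Spec (CommRingCat.of k)) := Over.mk (j ≫ Y.hom)
  let jM : M ⟶ Y := Over.homMk j rfl
  haveI : IsClosedImmersion jM.left := ‹IsClosedImmersion j›
  haveI : GeometricallyReduced M.hom := ‹GeometricallyReduced (j ≫ Y.hom)›
  haveI : IsReduced M.left := ‹IsReduced Yr›
  haveI : LocallyOfFiniteType M.hom := inferInstanceAs (LocallyOfFiniteType (j ≫ Y.hom))
  haveI : IsLocallyNoetherian M.left := LocallyOfFiniteType.isLocallyNoetherian M.hom
  have hlift : ∀ (T : Over (Spec (CommRingCat.of k))), IsReduced T.left → ∀ x : T ⟶ Y, ∃ z : T ⟶ M, z ≫ jM = x :=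
    fun T _ x => by
      obtain ⟨l, hl⟩ := RedSub.exists_lift x.left j (fun y _ => j.surjective y)
      exact ⟨Over.homMk l (by show l ≫ j ≫ Y.hom = T.hom; rw [reassoc_of% hl, Over.w x]),
        Over.OverMorphism.ext hl⟩
  haveI : Mono jM := Over.mono_of_mono_left jM
  haveI : IsReduced (M ⊗ M).left := inferInstanceAs (IsReduced (pullback M.hom M.hom))
  haveI : IsReduced (𝟙_ (Over (Spec (CommRingCat.of k)))).left := inferInstanceAs (IsReduced (Spec (CommRingCat.of k)))
  obtain ⟨e, he⟩ := hlift (𝟙_ _) inferInstance 1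
  obtain ⟨m, hm⟩ := hlift (M ⊗ M) inferInstance ((fst M M ≫ jM) * (snd M M ≫ jM))
  obtain ⟨v, hv⟩ := hlift M inferInstance jM⁻¹
  obtain ⟨gM, hgM⟩ := EssFree.exists_grpObj_of_mono jM
    (fun T => ⟨toUnit T ≫ e, by rw [Category.assoc, he, MonObj.comp_one]⟩)
    (fun T a b => ⟨lift a b ≫ m, by
      rw [Category.assoc, hm, MonObj.comp_mul, lift_fst_assoc, lift_snd_assoc]⟩)
    (fun T a => ⟨a ≫ v, by rw [Category.assoc, hv, GrpObj.comp_inv]⟩)
  letI := gM
  haveI : ConnectedSpace M.left := by
    let h : Yr ≃ₜ Y.left := j.isClosedEmbedding.isEmbedding.toHomeomorphOfSurjective j.surjective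
    exact h.symm.surjective.connectedSpace h.symm.continuous
  exact ⟨Rigidity.geometricallyIntegral_of_connected M, gM, hgM⟩

end GrothLib.RedSubgrp15
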